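import Mathlib
import Groth.Agent.Lib.Lead.EZ.ExtDelta
import Groth.Agent.Lib.Helper8.LC.Comp
import Groth.Prelude.Def_SuppFam

/-! # The presheaf of cohomology with supports as a δ-functor, and its sheafification. -/

set_option autoImplicit false
universe w v u
open CategoryTheory Limits Opposite Abelian TopologicalSpace

namespace Groth.Agent.LD.SF
open Groth.Agent.H8.LC Groth.Agent.LD.EZ

section Eval

variable {A : Type u} [Category.{v} A] [Abelian A] {J : Type w} [Category J]

/-- a short complex of functors which is objectwise exact is exact. -/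
lemma functor_exact_of_eval (D : ShortComplex (J ⥤ A))
    (h : ∀ j, (D.map ((evaluation J A).obj j)).Exact) : D.Exact := by
  rw [ShortComplex.exact_iff_isZero_homology, Functor.isZero_iff]
  intro j
  have := h j
  rw [ShortComplex.exact_iff_isZero_homology] at this
  exact this.of_iso (D.mapHomologyIso ((evaluation J A).obj j)).symm

end Eval

variable {X : TopCat.{u}} {W V : Opens X} (h : W ≤ V)

/-- `Ext^•(ℤ_{V ⊓ V'}/ℤ_{W ⊓ V'}, -)` as a δ-functor. -/
noncomputable abbrev ED (V' : Opens X) : DeltaFunctor (CohTop.Ab X) AddCommGrpCat.{u} :=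
  extDeltaFunctor (LocCohZ.zq (inf_le_inf_right V' h : W ⊓ V' ≤ V ⊓ V'))

/-- the presheaf of cohomology with supports, functorial in the sheaf. -/
noncomputable def HZpreF (n : ℕ) : CohTop.Ab X ⥤ ((Opens X)ᵒᵖ ⥤ AddCommGrpCat.{u}) where
  obj F := SuppFam.HZpre F n h
  map {F G} φ :=
    { app := fun V' => ((ED h V'.unop).F n).map φ
      naturality := fun V' V'' g => by
        ext x
        exact Ext.comp_assoc_of_third_deg_zero
          (Ext.mk₀ (LocCohZ.zqMap (inf_le_inf_right (unop V') h) (inf_le_inf_right (unop V'') h)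
            (inf_le_inf_left W (leOfHom g.unop)) (inf_le_inf_left V (leOfHom g.unop))))
          x (Ext.mk₀ φ) (zero_add n) }
  map_id F := by
    apply NatTrans.ext
    funext V'
    exact ((ED h V'.unop).F n).map_id F
  map_comp φ ψ := by
    apply NatTrans.ext
    funext V'
    exact ((ED h V'.unop).F n).map_comp φ ψ

/-- the presheaf-valued δ-functor `F ↦ (V' ↦ H^•_{Z ∩ V'}(V ∩ V', F))`. -/
noncomputable def PD : DeltaFunctor (CohTop.Ab X) ((Opens X)ᵒᵖ ⥤ AddCommGrpCat.{u}) where
  F n := HZpreF h n
  δ {S} hS n :=
    { app := fun V' => (ED h V'.unop).δ hS n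
      naturality := fun V' V'' g => by
        ext x
        exact Ext.comp_assoc
          (Ext.mk₀ (LocCohZ.zqMap (inf_le_inf_right (unop V') h) (inf_le_inf_right (unop V'') h)
            (inf_le_inf_left W (leOfHom g.unop)) (inf_le_inf_left V (leOfHom g.unop))))
          x hS.extClass (zero_add n) rfl (by omega) }
  δ_naturality hS hS' φ n := by
    apply NatTrans.ext
    funext V'
    exact (ED h V'.unop).δ_naturality hS hS' φ n
  map_comp_map hS n := by
    apply NatTrans.ext
    funext V'
    exact (ED h V'.unop).map_comp_map hS n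
  map_comp_δ hS n := by
    apply NatTrans.ext
    funext V'
    exact (ED h V'.unop).map_comp_δ hS n
  δ_comp_map hS n := by
    apply NatTrans.ext
    funext V'
    exact (ED h V'.unop).δ_comp_map hS n
  mono₀ hS := by
    rw [NatTrans.mono_iff_mono_app]
    intro V'
    exact (ED h V'.unop).mono₀ hS
  exact₂ hS n := functor_exact_of_eval _ (fun V' => (ED h V'.unop).exact₂ hS n)
  exact₃ hS n := functor_exact_of_eval _ (fun V' => (ED h V'.unop).exact₃ hS n)
  exact₁ hS n := functor_exact_of_eval _ (fun V' => (ED h V'.unop).exact₁ hS n)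

lemma PD_effaceable : (PD h).Effaceable := by
  intro I _ n
  rw [Functor.isZero_iff]
  intro V'
  exact extDeltaFunctor_effaceable (LocCohZ.zq (inf_le_inf_right V'.unop h : W ⊓ V'.unop ≤ V ⊓ V'.unop)) I n

instance preservesFiniteColimits_presheafToSheaf :
    PreservesFiniteColimits
      (presheafToSheaf (Opens.grothendieckTopology X) AddCommGrpCat.{u}) := by
  haveI : PreservesColimitsOfSize.{0, 0}
      (presheafToSheaf (Opens.grothendieckTopology X) AddCommGrpCat.{u}) :=
    (sheafificationAdjunction _ _).leftAdjoint_preservesColimits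
  exact PreservesColimitsOfSize.preservesFiniteColimits _

/-- the sheafified δ-functor. -/
noncomputable def SD : DeltaFunctor (CohTop.Ab X) (CohTop.Ab X) :=
  (PD h).postcomp (presheafToSheaf (Opens.grothendieckTopology X) AddCommGrpCat.{u})

lemma SD_effaceable : (SD h).Effaceable :=
  (PD_effaceable h).postcomp _

lemma SD_F_obj (n : ℕ) (F : CohTop.Ab X) :
    ((SD h).F n).obj F =
      (presheafToSheaf (Opens.grothendieckTopology X) AddCommGrpCat.{u}).obj
        (SuppFam.HZpre F n h) := rfl

end Groth.Agent.LD.SF
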