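import Mathlib
import Groth.Agent.Lib.Lead.LCZ.ExciseExt
import Groth.Agent.Lib.Lead.LCZ.Local
import Groth.Agent.Lib.Lead.SF.PreDelta
import Groth.Agent.Lib.Helper8.LC.RDerIso

/-! # Degree zero: sections of `Γ_Z F` for `Z` locally closed are `Hom(ℤ_{V∩V'}/ℤ_{W∩V'}, F)`. -/

set_option autoImplicit false
universe u
open CategoryTheory Limits Opposite Abelian TopologicalSpace

namespace Groth.Agent.LD.SF
open Groth.Agent.LD.LCZ Groth.Agent.LD.SC Groth.Agent.H8.LC

variable {X : TopCat.{u}} {W V : Opens X} (h : W ≤ V)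

/-- preimage in the subspace `V` of an open of `X`. -/
abbrev pre (V' : Opens X) : Opens (TopCat.of V) := (Opens.map (CohCx.incl V)).obj V'

lemma imV_pre_le (V' : Opens X) : imV (pre (V := V) V') ≤ V ⊓ V' := by
  rintro _ ⟨y, hy, rfl⟩
  exact Opens.mem_inf.2 ⟨y.2, hy⟩

lemma le_imV_pre (V' : Opens X) : V ⊓ V' ≤ imV (pre (V := V) V') :=
  fun x hx => ⟨⟨x, (Opens.mem_inf.1 hx).1⟩, (Opens.mem_inf.1 hx).2, rfl⟩

lemma zqEval_add {W V : Opens X} (h : W ≤ V) (G : CohTop.Ab X) (φ ψ : LocCohZ.zq h ⟶ G) :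
    zqEval h G (φ + ψ) = zqEval h G φ + zqEval h G ψ := by
  unfold zqEval
  rw [Preadditive.comp_add, homEquiv_add]

variable (F : CohTop.Ab X)

/-- sections of `Γ_Z F` over `V'`, as sections of `F` over `V ⊓ V'`. -/
noncomputable def bF (V' : Opens X) (t : ((SuppFam.sectSuppLC h).obj F).obj.obj (op V')) :
    F.obj.obj (op (V ⊓ V')) :=
  F.obj.map (homOfLE (le_imV_pre (V := V) V')).op
    ((ssι (SuppFam.inOpen V W) ((CohTop.restrFunctor V).obj F)).hom.app
      (op (pre (V := V) V')) t)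

lemma bF_injective (V' : Opens X) : Function.Injective (bF h F V') := by
  intro t t' htt
  apply ssι_app_injective (SuppFam.inOpen V W) ((CohTop.restrFunctor V).obj F) (pre (V := V) V')
  have h1 := congrArg (F.obj.map (homOfLE (imV_pre_le (V := V) V')).op) htt
  unfold bF at h1
  rw [map_map_eq, map_map_eq] at h1
  exact h1

lemma bF_add (V' : Opens X) (t t' : ((SuppFam.sectSuppLC h).obj F).obj.obj (op V')) :
    bF h F V' (t + t') = bF h F V' t + bF h F V' t' := by
  unfold bF
  have h1 := map_add (ConcreteCategory.hom ((ssι (SuppFam.inOpen V W)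
    ((CohTop.restrFunctor V).obj F)).hom.app (op (pre (V := V) V')))) t t'
  exact (congrArg (F.obj.map (homOfLE (le_imV_pre (V := V) V')).op) h1).trans (map_add _ _ _)

lemma res_bF (V' : Opens X) (t : ((SuppFam.sectSuppLC h).obj F).obj.obj (op V')) :
    F.obj.map (homOfLE (inf_le_inf_right V' h : W ⊓ V' ≤ V ⊓ V')).op (bF h F V' t) = 0 := by
  have h0 := res_ssι_eq_zero (SuppFam.inOpen V W) ((CohTop.restrFunctor V).obj F)
    (pre (V := V) V') t
  have hle : W ⊓ V' ≤ imV (pre (V := V) V' ⊓ SuppFam.inOpen V W) :=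
    fun x hx => ⟨⟨x, h (Opens.mem_inf.1 hx).1⟩,
      Opens.mem_inf.2 ⟨(Opens.mem_inf.1 hx).2, (Opens.mem_inf.1 hx).1⟩, rfl⟩
  change F.obj.map ((isOpenEmbedding_incl V).isOpenMap.functor.map
    (homOfLE (inf_le_left : pre (V := V) V' ⊓ SuppFam.inOpen V W ≤ pre (V := V) V'))).op _ = 0
    at h0
  unfold bF
  rw [map_map F (homOfLE (le_imV_pre (V := V) V')) (homOfLE (inf_le_inf_right V' h))
    (homOfLE ((inf_le_inf_right V' h).trans (le_imV_pre (V := V) V'))),
    ← map_map F ((isOpenEmbedding_incl V).isOpenMap.functor.map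
      (homOfLE (inf_le_left : pre (V := V) V' ⊓ SuppFam.inOpen V W ≤ pre (V := V) V')))
      (homOfLE hle) (homOfLE ((inf_le_inf_right V' h).trans (le_imV_pre (V := V) V'))),
    h0, map_zero]

lemma exists_bF_eq (V' : Opens X) (s : F.obj.obj (op (V ⊓ V')))
    (hs : F.obj.map (homOfLE (inf_le_inf_right V' h : W ⊓ V' ≤ V ⊓ V')).op s = 0) :
    ∃ t, bF h F V' t = s := by
  let s' : ((CohTop.restrFunctor V).obj F).obj.obj (op (pre (V := V) V')) :=
    F.obj.map (homOfLE (imV_pre_le (V := V) V')).op s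
  have hle : imV (pre (V := V) V' ⊓ SuppFam.inOpen V W) ≤ W ⊓ V' := by
    rintro _ ⟨y, hy, rfl⟩
    exact Opens.mem_inf.2 ⟨(Opens.mem_inf.1 hy).2, (Opens.mem_inf.1 hy).1⟩
  have hs' : ((CohTop.restrFunctor V).obj F).obj.map
      (homOfLE (inf_le_left : pre (V := V) V' ⊓ SuppFam.inOpen V W ≤ pre (V := V) V')).op s' =
        0 := by
    change F.obj.map ((isOpenEmbedding_incl V).isOpenMap.functor.map
      (homOfLE (inf_le_left : pre (V := V) V' ⊓ SuppFam.inOpen V W ≤ pre (V := V) V'))).op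
      (F.obj.map (homOfLE (imV_pre_le (V := V) V')).op s) = 0
    rw [map_map F _ _ (homOfLE (hle.trans (inf_le_inf_right V' h))),
      ← map_map F (homOfLE (inf_le_inf_right V' h)) (homOfLE hle), hs, map_zero]
  obtain ⟨t, ht⟩ := exists_ssι_eq (SuppFam.inOpen V W) ((CohTop.restrFunctor V).obj F)
    (pre (V := V) V') s' hs'
  refine ⟨t, ?_⟩
  unfold bF
  rw [ht]
  exact map_map_eq F _ _ s

lemma bF_res {A B : Opens X} (g : op A ⟶ op B)
    (t : ((SuppFam.sectSuppLC h).obj F).obj.obj (op A)) :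
    bF h F B (((SuppFam.sectSuppLC h).obj F).obj.map g t) =
      F.obj.map (homOfLE (inf_le_inf_left V (leOfHom g.unop))).op (bF h F A t) := by
  unfold bF
  have h1 := ssι_res (SuppFam.inOpen V W) ((CohTop.restrFunctor V).obj F)
    ((Opens.map (CohCx.incl V)).map g.unop) t
  have h2 : (ssι (SuppFam.inOpen V W) ((CohTop.restrFunctor V).obj F)).hom.app
      (op (pre (V := V) B)) (((SuppFam.sectSuppLC h).obj F).obj.map g t) =
      F.obj.map ((isOpenEmbedding_incl V).isOpenMap.functor.map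
        ((Opens.map (CohCx.incl V)).map g.unop)).op
        ((ssι (SuppFam.inOpen V W) ((CohTop.restrFunctor V).obj F)).hom.app
          (op (pre (V := V) A)) t) := h1
  rw [h2, map_map F _ _ (homOfLE ((inf_le_inf_left V (leOfHom g.unop)).trans
      (le_imV_pre (V := V) A))),
    map_map F _ _ (homOfLE ((inf_le_inf_left V (leOfHom g.unop)).trans
      (le_imV_pre (V := V) A)))]

lemma bF_map {F G : CohTop.Ab X} (φ : F ⟶ G) (V' : Opens X)
    (t : ((SuppFam.sectSuppLC h).obj F).obj.obj (op V')) :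
    bF h G V' (((SuppFam.sectSuppLC h).map φ).hom.app (op V') t) =
      φ.hom.app (op (V ⊓ V')) (bF h F V' t) := by
  unfold bF
  have h1 := sectSuppF_map_app (SuppFam.inOpen V W) ((CohTop.restrFunctor V).map φ)
    (pre (V := V) V') t
  have h2 : (ssι (SuppFam.inOpen V W) ((CohTop.restrFunctor V).obj G)).hom.app
      (op (pre (V := V) V')) (((SuppFam.sectSuppLC h).map φ).hom.app (op V') t) =
      φ.hom.app (op (imV (pre (V := V) V')))
        ((ssι (SuppFam.inOpen V W) ((CohTop.restrFunctor V).obj F)).hom.app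
          (op (pre (V := V) V')) t) := h1
  rw [h2]
  exact (NatTrans.naturality_apply φ.hom (homOfLE (le_imV_pre (V := V) V')).op _).symm

/-! ### the comparison -/

lemma exists_zq (V' : Opens X) (t : ((SuppFam.sectSuppLC h).obj F).obj.obj (op V')) :
    ∃ ψ : LocCohZ.zq (inf_le_inf_right V' h : W ⊓ V' ≤ V ⊓ V') ⟶ F,
      zqEval (inf_le_inf_right V' h) F ψ = bF h F V' t :=
  exists_zqEval_eq _ F _ (res_bF h F V' t)

/-- the morphism `ℤ_{V⊓V'}/ℤ_{W⊓V'} ⟶ F` of a section of `Γ_Z F` over `V'`. -/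
noncomputable def cF (V' : Opens X) (t : ((SuppFam.sectSuppLC h).obj F).obj.obj (op V')) :
    LocCohZ.zq (inf_le_inf_right V' h : W ⊓ V' ≤ V ⊓ V') ⟶ F :=
  (exists_zq h F V' t).choose

lemma zqEval_cF (V' : Opens X) (t : ((SuppFam.sectSuppLC h).obj F).obj.obj (op V')) :
    zqEval (inf_le_inf_right V' h) F (cF h F V' t) = bF h F V' t :=
  (exists_zq h F V' t).choose_spec

lemma cF_add (V' : Opens X) (t t' : ((SuppFam.sectSuppLC h).obj F).obj.obj (op V')) :
    cF h F V' (t + t') = cF h F V' t + cF h F V' t' := by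
  apply zqEval_injective (inf_le_inf_right V' h) F
  rw [zqEval_add, zqEval_cF, zqEval_cF, zqEval_cF, bF_add]

/-- the comparison homomorphism `Γ(V', Γ_Z F) → H^0_{Z∩V'}(V∩V', F)`. -/
noncomputable def cHom (V' : Opens X) :
    ((SuppFam.sectSuppLC h).obj F).obj.obj (op V') →+
      LocCohZ.HZ F 0 (inf_le_inf_right V' h : W ⊓ V' ≤ V ⊓ V') :=
  AddMonoidHom.mk' (fun t => Ext.mk₀ (cF h F V' t)) (fun t t' => by
    rw [cF_add, Ext.mk₀_add])

lemma cHom_apply (V' : Opens X) (t : ((SuppFam.sectSuppLC h).obj F).obj.obj (op V')) :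
    cHom h F V' t = Ext.mk₀ (cF h F V' t) := rfl

lemma cHom_bijective (V' : Opens X) : Function.Bijective (cHom h F V') := by
  constructor
  · intro t t' htt
    apply bF_injective h F V'
    rw [cHom_apply, cHom_apply] at htt
    have h1 : cF h F V' t = cF h F V' t' := (Ext.mk₀_bijective _ _).1 htt
    rw [← zqEval_cF, ← zqEval_cF, h1]
  · intro x
    obtain ⟨t, ht⟩ := exists_bF_eq h F V'
      (zqEval (inf_le_inf_right V' h) F (Ext.addEquiv₀ x)) (zqEval_res _ F _)
    refine ⟨t, ?_⟩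
    rw [cHom_apply]
    have h1 : cF h F V' t = Ext.addEquiv₀ x := by
      apply zqEval_injective (inf_le_inf_right V' h) F
      rw [zqEval_cF, ht]
    rw [h1, Ext.mk₀_addEquiv₀_apply]

lemma cHom_res {A B : Opens X} (g : op A ⟶ op B)
    (t : ((SuppFam.sectSuppLC h).obj F).obj.obj (op A)) :
    cHom h F B (((SuppFam.sectSuppLC h).obj F).obj.map g t) =
      LocCohZ.resZ F 0 (inf_le_inf_right A h) (inf_le_inf_right B h)
        (inf_le_inf_left W (leOfHom g.unop)) (inf_le_inf_left V (leOfHom g.unop))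
        (cHom h F A t) := by
  rw [cHom_apply, cHom_apply]
  change _ = (Ext.mk₀ (LocCohZ.zqMap (inf_le_inf_right A h) (inf_le_inf_right B h)
    (inf_le_inf_left W (leOfHom g.unop)) (inf_le_inf_left V (leOfHom g.unop)))).comp
      (Ext.mk₀ (cF h F A t)) (zero_add 0)
  rw [Ext.mk₀_comp_mk₀]
  congr 1
  apply zqEval_injective (inf_le_inf_right B h) F
  rw [zqEval_cF, zqEval_zqMap, zqEval_cF, bF_res]

lemma cHom_map {F G : CohTop.Ab X} (φ : F ⟶ G) (V' : Opens X)
    (t : ((SuppFam.sectSuppLC h).obj F).obj.obj (op V')) :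
    cHom h G V' (((SuppFam.sectSuppLC h).map φ).hom.app (op V') t) =
      LocCohZ.map φ 0 (inf_le_inf_right V' h : W ⊓ V' ≤ V ⊓ V') (cHom h F V' t) := by
  rw [cHom_apply, cHom_apply]
  change _ = (Ext.mk₀ (cF h F V' t)).comp (Ext.mk₀ φ) (add_zero 0)
  rw [Ext.mk₀_comp_mk₀]
  congr 1
  apply zqEval_injective (inf_le_inf_right V' h) G
  rw [zqEval_cF, zqEval_comp, zqEval_cF, bF_map]

/-- the presheaf of sections of `Γ_Z F` is the presheaf of `H^0` with supports. -/
noncomputable def preIsoApp : ((SuppFam.sectSuppLC h).obj F).obj ≅ SuppFam.HZpre F 0 h :=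
  NatIso.ofComponents
    (fun V' => (AddEquiv.ofBijective (cHom h F V'.unop)
      (cHom_bijective h F V'.unop)).toAddCommGrpIso)
    (fun {V' V''} g => by
      ext t
      exact cHom_res h F (A := V'.unop) (B := V''.unop) g t)

/-- the natural isomorphism in degree zero, at the level of presheaves. -/
noncomputable def preIso :
    SuppFam.sectSuppLC h ⋙ sheafToPresheaf (Opens.grothendieckTopology X) AddCommGrpCat.{u} ≅
      HZpreF h 0 :=
  NatIso.ofComponents (fun F => preIsoApp h F) (fun {F G} φ => by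
    apply NatTrans.ext
    funext V'
    ext t
    exact cHom_map h φ V'.unop t)

/-- the natural isomorphism in degree zero. -/
noncomputable def e0 : SuppFam.sectSuppLC h ≅ (SD h).F 0 :=
  (Functor.rightUnitor _).symm ≪≫
    Functor.isoWhiskerLeft (SuppFam.sectSuppLC h)
      (sheafificationNatIso (Opens.grothendieckTopology X) AddCommGrpCat.{u}) ≪≫
    (Functor.associator _ _ _).symm ≪≫
    Functor.isoWhiskerRight (preIso h)
      (presheafToSheaf (Opens.grothendieckTopology X) AddCommGrpCat.{u})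

/-- **S13583**: the local cohomology sheaf of a locally closed subset is the sheaf associated
to the presheaf of cohomology with supports. -/
theorem nonempty_HZshLC_iso (q : ℕ) :
    Nonempty ((SuppFam.HZshLC h q).obj F ≅
      (presheafToSheaf (Opens.grothendieckTopology X) AddCommGrpCat.{u}).obj
        (SuppFam.HZpre F q h)) := by
  haveI : ((SD h).F 0).Additive := Functor.additive_of_iso (e0 h)
  exact ⟨((SD h).rightDerivedIso (SD_effaceable h) (SuppFam.sectSuppLC h) (e0 h) q).app F⟩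

end Groth.Agent.LD.SF
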