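import Mathlib
import Groth.Agent.Lib.Lead.SF.Deg0

/-! # Presheaves of sections of `F` over `V ⊓ V'` vanishing on `W ⊓ V'` are the presheaf of
`H^0` with supports. -/

set_option autoImplicit false
universe u
open CategoryTheory Limits Opposite Abelian TopologicalSpace

namespace Groth.Agent.LD.SF
open Groth.Agent.LD.LCZ Groth.Agent.LD.SC

variable {X : TopCat.{u}} {W V : Opens X} (h : W ≤ V)

/-- a presheaf whose sections over `V'` are identified with the sections of `F` over `V ⊓ V'`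
vanishing on `W ⊓ V'`. -/
structure SecData (F : CohTop.Ab X) (P : (Opens X)ᵒᵖ ⥤ AddCommGrpCat.{u}) where
  b : ∀ V' : Opens X, P.obj (op V') →+ F.obj.obj (op (V ⊓ V'))
  inj : ∀ V' : Opens X, Function.Injective (b V')
  res_zero : ∀ (V' : Opens X) (t : P.obj (op V')),
    F.obj.map (homOfLE (inf_le_inf_right V' h : W ⊓ V' ≤ V ⊓ V')).op (b V' t) = 0
  surj : ∀ (V' : Opens X) (s : F.obj.obj (op (V ⊓ V'))),
    F.obj.map (homOfLE (inf_le_inf_right V' h : W ⊓ V' ≤ V ⊓ V')).op s = 0 → ∃ t, b V' t = s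
  nat : ∀ {A B : Opens X} (g : op A ⟶ op B) (t : P.obj (op A)),
    b B (P.map g t) = F.obj.map (homOfLE (inf_le_inf_left V (leOfHom g.unop))).op (b A t)

namespace SecData

variable {h} {F : CohTop.Ab X} {P : (Opens X)ᵒᵖ ⥤ AddCommGrpCat.{u}} (D : SecData h F P)

lemma exists_zq (V' : Opens X) (t : P.obj (op V')) :
    ∃ ψ : LocCohZ.zq (inf_le_inf_right V' h : W ⊓ V' ≤ V ⊓ V') ⟶ F,
      zqEval (inf_le_inf_right V' h) F ψ = D.b V' t :=
  exists_zqEval_eq _ F _ (D.res_zero V' t)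

/-- the morphism `ℤ_{V⊓V'}/ℤ_{W⊓V'} ⟶ F` of a section. -/
noncomputable def c (V' : Opens X) (t : P.obj (op V')) :
    LocCohZ.zq (inf_le_inf_right V' h : W ⊓ V' ≤ V ⊓ V') ⟶ F :=
  (D.exists_zq V' t).choose

lemma zqEval_c (V' : Opens X) (t : P.obj (op V')) :
    zqEval (inf_le_inf_right V' h) F (D.c V' t) = D.b V' t :=
  (D.exists_zq V' t).choose_spec

lemma c_add (V' : Opens X) (t t' : P.obj (op V')) :
    D.c V' (t + t') = D.c V' t + D.c V' t' := by
  apply zqEval_injective (inf_le_inf_right V' h) F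
  rw [zqEval_add, zqEval_c, zqEval_c, zqEval_c, map_add]

/-- the comparison homomorphism. -/
noncomputable def cHom (V' : Opens X) :
    P.obj (op V') →+ LocCohZ.HZ F 0 (inf_le_inf_right V' h : W ⊓ V' ≤ V ⊓ V') :=
  AddMonoidHom.mk' (fun t => Ext.mk₀ (D.c V' t)) (fun t t' => by
    rw [c_add, Ext.mk₀_add])

lemma cHom_apply (V' : Opens X) (t : P.obj (op V')) :
    D.cHom V' t = Ext.mk₀ (D.c V' t) := rfl

lemma cHom_bijective (V' : Opens X) : Function.Bijective (D.cHom V') := by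
  constructor
  · intro t t' htt
    apply D.inj V'
    rw [cHom_apply, cHom_apply] at htt
    have h1 : D.c V' t = D.c V' t' := (Ext.mk₀_bijective _ _).1 htt
    rw [← zqEval_c, ← zqEval_c, h1]
  · intro x
    obtain ⟨t, ht⟩ := D.surj V'
      (zqEval (inf_le_inf_right V' h) F (Ext.addEquiv₀ x)) (zqEval_res _ F _)
    refine ⟨t, ?_⟩
    rw [cHom_apply]
    have h1 : D.c V' t = Ext.addEquiv₀ x := by
      apply zqEval_injective (inf_le_inf_right V' h) F
      rw [zqEval_c, ht]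
    rw [h1, Ext.mk₀_addEquiv₀_apply]

lemma cHom_res {A B : Opens X} (g : op A ⟶ op B) (t : P.obj (op A)) :
    D.cHom B (P.map g t) =
      LocCohZ.resZ F 0 (inf_le_inf_right A h) (inf_le_inf_right B h)
        (inf_le_inf_left W (leOfHom g.unop)) (inf_le_inf_left V (leOfHom g.unop))
        (D.cHom A t) := by
  rw [cHom_apply, cHom_apply]
  change _ = (Ext.mk₀ (LocCohZ.zqMap (inf_le_inf_right A h) (inf_le_inf_right B h)
    (inf_le_inf_left W (leOfHom g.unop)) (inf_le_inf_left V (leOfHom g.unop)))).comp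
      (Ext.mk₀ (D.c A t)) (zero_add 0)
  rw [Ext.mk₀_comp_mk₀]
  congr 1
  apply zqEval_injective (inf_le_inf_right B h) F
  rw [zqEval_c, zqEval_zqMap, zqEval_c, D.nat]

/-- the isomorphism with the presheaf of `H^0` with supports. -/
noncomputable def iso : P ≅ SuppFam.HZpre F 0 h :=
  NatIso.ofComponents
    (fun V' => (AddEquiv.ofBijective (D.cHom V'.unop) (D.cHom_bijective V'.unop)).toAddCommGrpIso)
    (fun {V' V''} g => by
      ext t
      exact D.cHom_res (A := V'.unop) (B := V''.unop) g t)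

lemma iso_hom_app (V' : Opens X) (t : P.obj (op V')) :
    (D.iso.hom.app (op V')) t = D.cHom V' t := rfl

end SecData

/-- naturality of the comparison in the sheaf. -/
lemma SecData.cHom_map {F G : CohTop.Ab X} {P Q : (Opens X)ᵒᵖ ⥤ AddCommGrpCat.{u}}
    (D : SecData h F P) (E : SecData h G Q) (φ : F ⟶ G) (π : P ⟶ Q)
    (hπ : ∀ (V' : Opens X) (t : P.obj (op V')),
      E.b V' (π.app (op V') t) = φ.hom.app (op (V ⊓ V')) (D.b V' t))
    (V' : Opens X) (t : P.obj (op V')) :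
    E.cHom V' (π.app (op V') t) =
      LocCohZ.map φ 0 (inf_le_inf_right V' h : W ⊓ V' ≤ V ⊓ V') (D.cHom V' t) := by
  rw [SecData.cHom_apply, SecData.cHom_apply]
  change _ = (Ext.mk₀ (D.c V' t)).comp (Ext.mk₀ φ) (add_zero 0)
  rw [Ext.mk₀_comp_mk₀]
  congr 1
  apply zqEval_injective (inf_le_inf_right V' h) G
  rw [SecData.zqEval_c, zqEval_comp, SecData.zqEval_c, hπ]

lemma SecData.iso_naturality {F G : CohTop.Ab X} {P Q : (Opens X)ᵒᵖ ⥤ AddCommGrpCat.{u}}
    (D : SecData h F P) (E : SecData h G Q) (φ : F ⟶ G) (π : P ⟶ Q)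
    (hπ : ∀ (V' : Opens X) (t : P.obj (op V')),
      E.b V' (π.app (op V') t) = φ.hom.app (op (V ⊓ V')) (D.b V' t)) :
    π ≫ E.iso.hom = D.iso.hom ≫ (HZpreF h 0).map φ := by
  apply NatTrans.ext
  funext V'
  ext t
  exact SecData.cHom_map h D E φ π hπ V'.unop t

end Groth.Agent.LD.SF
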