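import Mathlib
import Groth.Agent.Lib.Lead.QCQS.LocCoh

/-! # The module-level functor of sections over `O₁` vanishing on `O₂`, and the
quasi-coherence of its right derived functors. -/

set_option autoImplicit false
universe u
open CategoryTheory Limits AlgebraicGeometry TopologicalSpace Opposite

namespace Groth.Agent.LD.SF
open Groth.Agent.LD.QCQS Groth.Agent.LD.QC Groth.Agent.LD.SC Groth.Agent.LD.SC.FunSES

variable {X S : Scheme.{u}} (f : X ⟶ S) {O₂ O₁ : X.Opens} (h : O₂ ≤ O₁)

/-- sections over `O₁` vanishing on `O₂`, pushed to `S`: the kernel of `G_{O₁} ⟶ G_{O₂}`. -/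
noncomputable def GK : X.Modules ⥤ S.Modules where
  obj M := kernel ((resG f h).app M)
  map {M N} φ := kernel.map _ _ ((G f O₁).map φ) ((G f O₂).map φ)
    ((resG f h).naturality φ).symm
  map_id M := by
    apply equalizer.hom_ext
    simp
  map_comp φ ψ := by
    apply equalizer.hom_ext
    simp

/-- the inclusion, at `M`. -/
noncomputable def ιKapp (M : X.Modules) : (GK f h).obj M ⟶ (G f O₁).obj M :=
  kernel.ι ((resG f h).app M)

instance (M : X.Modules) : Mono (ιKapp f h M) :=
  inferInstanceAs (Mono (kernel.ι ((resG f h).app M)))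

lemma GK_map_ι {M N : X.Modules} (χ : M ⟶ N) :
    (GK f h).map χ ≫ ιKapp f h N = ιKapp f h M ≫ (G f O₁).map χ :=
  kernel.lift_ι _ _ _

instance : (GK f h).Additive where
  map_add := by
    intro M N φ ψ
    apply (cancel_mono (ιKapp f h N)).1
    rw [Preadditive.add_comp, GK_map_ι, GK_map_ι, GK_map_ι, Functor.map_add,
      Preadditive.comp_add]

/-- the inclusion `𝒦 ⟶ G_{O₁}`. -/
noncomputable def ιK : GK f h ⟶ G f O₁ where
  app M := ιKapp f h M
  naturality M N φ := GK_map_ι f h φ

lemma wK : ιK f h ≫ resG f h = 0 := by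
  ext M : 2
  exact kernel.condition _

lemma epi_resG_app (I : X.Modules) [Injective I] : Epi ((resG f h).app I) := by
  apply epi_of_sections S.ringCatSheaf
  intro V
  obtain ⟨V⟩ := V
  change Function.Surjective (((resG f h).app I).app V)
  rw [resG_app_app]
  exact surjective_map_of_injective I _

lemma shortExact_K (I : X.Modules) (hI : Injective I) :
    (ShortComplex.mk ((ιK f h).app I) ((resG f h).app I)
      (app_comp_app _ _ (wK f h) I)).ShortExact := by
  haveI := hI
  haveI : Mono ((ιK f h).app I) := inferInstanceAs (Mono (ιKapp f h I))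
  haveI : Epi ((resG f h).app I) := epi_resG_app f h I
  exact { exact := ShortComplex.exact_of_f_is_kernel _ (kernelIsKernel _) }

variable [HasInjectiveResolutions X.Modules]

lemma qc_rightDerived_G (O : X.Opens) [QuasiCompact (O.ι ≫ f)] [QuasiSeparated (O.ι ≫ f)]
    (M : X.Modules) (hM : M.IsQuasicoherent) (k : ℕ) :
    (((G f O).rightDerived k).obj M).IsQuasicoherent := by
  haveI := hasInjRes O.toScheme
  haveI := hM
  haveI : (M.restrict O.ι).IsQuasicoherent := qc_restrict O.ι M
  let e := rightDerivedCompNatIso (Scheme.Modules.restrictFunctor O.ι)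
    (Scheme.Modules.pushforward (O.ι ≫ f)) (G f O) (Iso.refl _) k
  exact qc_of_iso (e.app M) (qc_Rpush (O.ι ≫ f) (M.restrict O.ι) k)

/-- the right derived functors of `𝒦` preserve quasi-coherence. -/
theorem qc_RGK [QuasiCompact (O₁.ι ≫ f)] [QuasiSeparated (O₁.ι ≫ f)]
    [QuasiCompact (O₂.ι ≫ f)] [QuasiSeparated (O₂.ι ≫ f)]
    (M : X.Modules) (hM : M.IsQuasicoherent) (q : ℕ) :
    (((GK f h).rightDerived q).obj M).IsQuasicoherent := by
  have hαβ := shortExact_K f h
  cases q with
  | zero =>
    have hex := exact₂ (ιK f h) (resG f h) (wK f h) hαβ M 0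
    haveI := mono_rα_zero (ιK f h) (resG f h) (wK f h) hαβ M
    have hk := hex.fIsKernel
    have e := IsLimit.conePointUniqueUpToIso hk
      (kernelIsKernel ((NatTrans.rightDerived (resG f h) 0).app M))
    exact qc_of_iso e.symm (qc_kernel _ (qc_rightDerived_G f O₁ M hM 0)
      (qc_rightDerived_G f O₂ M hM 0))
  | succ k =>
    exact qc_of_exact5 _ _ _ _ _ _ _
      (exact₃ (ιK f h) (resG f h) (wK f h) hαβ M k)
      (exact₁ (ιK f h) (resG f h) (wK f h) hαβ M k)
      (exact₂ (ιK f h) (resG f h) (wK f h) hαβ M (k + 1))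
      (qc_rightDerived_G f O₁ M hM k) (qc_rightDerived_G f O₂ M hM k)
      (qc_rightDerived_G f O₁ M hM (k + 1)) (qc_rightDerived_G f O₂ M hM (k + 1))

end Groth.Agent.LD.SF
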