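import Mathlib
import Groth.Agent.Lib.Lead.SF.Abs
import Groth.Agent.Lib.Lead.SF.QCK
import Groth.Agent.Lib.Lead.RP.Compare
import Groth.Agent.Lib.Lead.RS.Sections
import Groth.Agent.Lib.Lead.EZ.PostcompNat
import Groth.Agent.Lib.Lead.LCZ.Flasque

/-! # Quasi-coherence of the local cohomology sheaves of a locally closed subset (S13584). -/

set_option autoImplicit false
universe u
open CategoryTheory Limits AlgebraicGeometry TopologicalSpace Opposite Abelian

namespace Groth.Agent.LD.SF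
open Groth.Agent.LD.QCQS Groth.Agent.LD.QC Groth.Agent.LD.SC Groth.Agent.LD.RP
  Groth.Agent.H8.LC Groth.Agent.LD.EZ

variable {Y : Scheme.{u}}

lemma mm (M : Y.Modules) {A B D : Y.Opens} (a : A ⟶ B) (b : D ⟶ A) (c : D ⟶ B)
    (s : Γ(M, B)) : M.presheaf.map b.op (M.presheaf.map a.op s) = M.presheaf.map c.op s := by
  rw [← ConcreteCategory.comp_apply, ← M.presheaf.map_comp, ← op_comp]
  have : b ≫ a = c := Subsingleton.elim _ _
  rw [this]

lemma le_FnId (O V' : Y.Opens) : O ⊓ V' ≤ (Fn (𝟙 Y) O).obj V' :=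
  fun x hx => ⟨⟨x, (Opens.mem_inf.1 hx).1⟩, (Opens.mem_inf.1 hx).2, rfl⟩

lemma FnId_le (O V' : Y.Opens) : (Fn (𝟙 Y) O).obj V' ≤ O ⊓ V' := by
  rintro _ ⟨y, hy, rfl⟩
  exact Opens.mem_inf.2 ⟨y.2, hy⟩

lemma kernel_ι_app_injective {A B : Y.Modules} (α : A ⟶ B) (V : Y.Opens) :
    Function.Injective ((kernel.ι α).app V) := by
  haveI : Mono ((τ Y).map (kernel.ι α)) := inferInstance
  exact CH.app_injective_of_mono ((τ Y).map (kernel.ι α)) V

lemma exists_kernel_ι_app_eq {A B : Y.Modules} (α : A ⟶ B) (V : Y.Opens) (y : Γ(A, V))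
    (hy : α.app V y = 0) : ∃ x : Γ(kernel α, V), (kernel.ι α).app V x = y := by
  let T : ShortComplex Y.Modules := ShortComplex.mk (kernel.ι α) α (kernel.condition α)
  have hT : T.Exact := T.exact_of_f_is_kernel (kernelIsKernel α)
  haveI : Mono T.f := inferInstanceAs (Mono (kernel.ι α))
  have h := hT.map_of_mono_of_preservesKernel
    (τ Y ⋙ sheafToPresheaf (Opens.grothendieckTopology Y) AddCommGrpCat.{u} ⋙
      (evaluation _ _).obj (op V)) inferInstance inferInstance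
  rw [ShortComplex.ab_exact_iff] at h
  exact h y hy

variable {V₂ V₁ : Y.Opens} (h : V₂ ≤ V₁)

/-- the module-level functor of sections supported in `V₁ ∖ V₂`. -/
noncomputable abbrev 𝒦 : Y.Modules ⥤ Y.Modules := GK (𝟙 Y) h

section sections

variable (M : Y.Modules)

/-- the inclusion on sections. -/
noncomputable abbrev ιS (V' : Y.Opens) :
    Γ((𝒦 h).obj M, V') ⟶ Γ(M, (Fn (𝟙 Y) V₁).obj V') :=
  (ιKapp (𝟙 Y) h M).app V'

lemma ιS_injective (V' : Y.Opens) : Function.Injective (ιS h M V') :=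
  kernel_ι_app_injective _ V'

lemma res_ιS (V' : Y.Opens) (t : Γ((𝒦 h).obj M, V')) :
    M.presheaf.map (homOfLE (Fn_obj_le (𝟙 Y) h V')).op (ιS h M V' t) = 0 := by
  have h0 := kernel.condition ((resG (𝟙 Y) h).app M)
  have h1 := congr(Scheme.Modules.Hom.app $h0 V')
  rw [Scheme.Modules.Hom.comp_app, resG_app_app] at h1
  exact congr($h1 t)

lemma exists_ιS_eq (V' : Y.Opens) (y : Γ(M, (Fn (𝟙 Y) V₁).obj V'))
    (hy : M.presheaf.map (homOfLE (Fn_obj_le (𝟙 Y) h V')).op y = 0) :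
    ∃ t : Γ((𝒦 h).obj M, V'), ιS h M V' t = y :=
  exists_kernel_ι_app_eq ((resG (𝟙 Y) h).app M) V' y hy

/-- sections of `𝒦 M` over `V'` as sections of `M` over `V₁ ⊓ V'`. -/
noncomputable def bK (V' : Y.Opens) : Γ((𝒦 h).obj M, V') →+ Γ(M, V₁ ⊓ V') :=
  (M.presheaf.map (homOfLE (le_FnId V₁ V')).op).hom.comp (ιS h M V').hom

lemma bK_apply (V' : Y.Opens) (t : Γ((𝒦 h).obj M, V')) :
    bK h M V' t = M.presheaf.map (homOfLE (le_FnId V₁ V')).op (ιS h M V' t) := rfl

/-- the section data of `𝒦 M`. -/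
noncomputable def secDataK :
    SecData (X := Y.carrier) h (Coh.toAb M) (Coh.toAb ((𝒦 h).obj M)).obj where
  b V' := bK h M V'
  inj V' := by
    intro t t' htt
    apply ιS_injective h M V'
    have htt' : M.presheaf.map (homOfLE (le_FnId V₁ V')).op (ιS h M V' t) =
        M.presheaf.map (homOfLE (le_FnId V₁ V')).op (ιS h M V' t') := htt
    exact res_injective_of_le_of_le M (le_FnId V₁ V') (FnId_le V₁ V') htt'
  res_zero V' t := by
    change M.presheaf.map (homOfLE (inf_le_inf_right V' h : V₂ ⊓ V' ≤ V₁ ⊓ V')).op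
      (bK h M V' t) = 0
    rw [bK_apply, mm M _ _ (homOfLE ((le_FnId V₂ V').trans (Fn_obj_le (𝟙 Y) h V'))),
      ← mm M (homOfLE (Fn_obj_le (𝟙 Y) h V')) (homOfLE (le_FnId V₂ V')), res_ιS, map_zero]
  surj V' s hs := by
    replace hs : M.presheaf.map (homOfLE (inf_le_inf_right V' h : V₂ ⊓ V' ≤ V₁ ⊓ V')).op s = 0 :=
      hs
    let y : Γ(M, (Fn (𝟙 Y) V₁).obj V') := M.presheaf.map (homOfLE (FnId_le V₁ V')).op s
    have hy : M.presheaf.map (homOfLE (Fn_obj_le (𝟙 Y) h V')).op y = 0 := by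
      change M.presheaf.map (homOfLE (Fn_obj_le (𝟙 Y) h V')).op
        (M.presheaf.map (homOfLE (FnId_le V₁ V')).op s) = 0
      rw [mm M _ _ (homOfLE ((FnId_le V₂ V').trans (inf_le_inf_right V' h))),
        ← mm M (homOfLE (inf_le_inf_right V' h : V₂ ⊓ V' ≤ V₁ ⊓ V')) (homOfLE (FnId_le V₂ V')),
        hs, map_zero]
    obtain ⟨t, ht⟩ := exists_ιS_eq h M V' y hy
    refine ⟨t, ?_⟩
    change bK h M V' t = s
    rw [bK_apply, ht]
    change M.presheaf.map (homOfLE (le_FnId V₁ V')).op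
      (M.presheaf.map (homOfLE (FnId_le V₁ V')).op s) = s
    rw [mm M _ _ (𝟙 _)]
    exact res_self M le_rfl s
  nat {A B} g t := by
    change bK h M B (((𝒦 h).obj M).presheaf.map g t) =
      M.presheaf.map (homOfLE (inf_le_inf_left V₁ (leOfHom g.unop))).op (bK h M A t)
    rw [bK_apply, bK_apply]
    have h1 := (ιKapp (𝟙 Y) h M).mapPresheaf.naturality g
    have h2 : ιS h M B (((𝒦 h).obj M).presheaf.map g t) =
        M.presheaf.map ((Fn (𝟙 Y) V₁).map g.unop).op (ιS h M A t) := congr($h1 t)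
    rw [h2, mm M _ _ (homOfLE ((inf_le_inf_left V₁ (leOfHom g.unop)).trans (le_FnId V₁ A))),
      mm M _ _ (homOfLE ((inf_le_inf_left V₁ (leOfHom g.unop)).trans (le_FnId V₁ A)))]

end sections

lemma bK_map {M N : Y.Modules} (φ : M ⟶ N) (V' : Y.Opens) (t : Γ((𝒦 h).obj M, V')) :
    bK h N V' (((𝒦 h).map φ).app V' t) = φ.app (V₁ ⊓ V') (bK h M V' t) := by
  rw [bK_apply, bK_apply]
  have h1 := GK_map_ι (𝟙 Y) h φ
  have h2 := congr(Scheme.Modules.Hom.app $h1 V')
  rw [Scheme.Modules.Hom.comp_app, Scheme.Modules.Hom.comp_app] at h2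
  have h3 : ιS h N V' (((𝒦 h).map φ).app V' t) =
      φ.app ((Fn (𝟙 Y) V₁).obj V') (ιS h M V' t) := congr($h2 t)
  rw [h3]
  exact (app_res φ (le_FnId V₁ V') _).symm

/-! ### the comparison of derived functors -/

/-- the degree-zero isomorphism at the level of presheaves. -/
noncomputable def preIsoK :
    (𝒦 h ⋙ τ Y) ⋙ sheafToPresheaf (Opens.grothendieckTopology Y.carrier) AddCommGrpCat.{u} ≅
      τ Y ⋙ HZpreF (X := Y.carrier) h 0 :=
  NatIso.ofComponents (fun M => (secDataK h M).iso) (fun {M N} φ =>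
    SecData.iso_naturality (X := Y.carrier) h (secDataK h M) (secDataK h N) ((τ Y).map φ)
      ((sheafToPresheaf _ _).map ((τ Y).map ((𝒦 h).map φ))) (fun V' t => bK_map h φ V' t))

/-- the δ-functor `M ↦ (sheafified presheaf of cohomology with supports of `M`)`. -/
noncomputable def TK : DeltaFunctor Y.Modules (CohTop.Ab Y.carrier) :=
  (SD (X := Y.carrier) h).precomp (τ Y)

/-- the underlying abelian sheaf of an injective module is flasque. -/
lemma isFlasque_toAb_of_injective (I : Y.Modules) [Injective I] :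
    TopCat.Sheaf.IsFlasque (X := Y.carrier) (Coh.toAb I) where
  epi {U V} i := by
    rw [AddCommGrpCat.epi_iff_surjective]
    exact surjective_map_of_injective I (leOfHom i.unop)

lemma TK_effaceable : (TK h).Effaceable := by
  intro I _ n
  haveI := isFlasque_toAb_of_injective I
  change IsZero ((presheafToSheaf (Opens.grothendieckTopology Y.carrier) AddCommGrpCat.{u}).obj
    (SuppFam.HZpre (X := Y.carrier) (Coh.toAb I) (n + 1) h))
  apply Functor.map_isZero
  rw [Functor.isZero_iff]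
  intro V'
  haveI := LCZ.subsingleton_HZ_of_isFlasque (X := Y.carrier) (Coh.toAb I)
    (inf_le_inf_right V'.unop h : V₂ ⊓ V'.unop ≤ V₁ ⊓ V'.unop) n
  change IsZero (AddCommGrpCat.of (LocCohZ.HZ (X := Y.carrier) (Coh.toAb I) (n + 1)
    (inf_le_inf_right V'.unop h : V₂ ⊓ V'.unop ≤ V₁ ⊓ V'.unop)))
  exact AddCommGrpCat.isZero_of_subsingleton _

/-- the degree-zero isomorphism. -/
noncomputable def e0K : 𝒦 h ⋙ τ Y ≅ (TK h).F 0 :=
  (Functor.rightUnitor _).symm ≪≫
    Functor.isoWhiskerLeft (𝒦 h ⋙ τ Y)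
      (sheafificationNatIso (Opens.grothendieckTopology Y.carrier) AddCommGrpCat.{u}) ≪≫
    (Functor.associator _ _ _).symm ≪≫
    Functor.isoWhiskerRight (preIsoK h)
      (presheafToSheaf (Opens.grothendieckTopology Y.carrier) AddCommGrpCat.{u}) ≪≫
    Functor.associator _ _ _

/-- **S13584**: the local cohomology sheaves of a quasi-coherent module with supports in a
locally closed subset `V₁ ∖ V₂` (with `V₁`, `V₂` retrocompact) are quasi-coherent. -/
theorem exists_qc_iso [QuasiCompact V₁.ι] [QuasiCompact V₂.ι] (F : Y.Modules)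
    (hF : F.IsQuasicoherent) (i : ℕ) :
    ∃ M : Y.Modules, M.IsQuasicoherent ∧
      Nonempty (Coh.toAb M ≅ (SuppFam.HZshLC (X := Y.carrier) h i).obj (Coh.toAb F)) := by
  haveI := hasInjRes Y
  haveI := RS.enoughInjectives Y
  haveI : QuasiCompact (V₁.ι ≫ 𝟙 Y) := by rw [Category.comp_id]; infer_instance
  haveI : QuasiCompact (V₂.ι ≫ 𝟙 Y) := by rw [Category.comp_id]; infer_instance
  haveI : QuasiSeparated (V₁.ι ≫ 𝟙 Y) := by rw [Category.comp_id]; infer_instance
  haveI : QuasiSeparated (V₂.ι ≫ 𝟙 Y) := by rw [Category.comp_id]; infer_instance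
  refine ⟨((𝒦 h).rightDerived i).obj F, qc_RGK (𝟙 Y) h F hF i, ?_⟩
  haveI : (τ Y).PreservesHomology := Functor.preservesHomology_of_preservesEpis_and_kernels _
  let e1 := (rightDerivedPostcompNatIso (𝒦 h) (τ Y) i).app F
  haveI : ((TK h).F 0).Additive := Functor.additive_of_iso (e0K h)
  let e2 := ((TK h).rightDerivedIso (TK_effaceable h) (𝒦 h ⋙ τ Y) (e0K h) i).app F
  obtain ⟨e3⟩ := nonempty_HZshLC_iso (X := Y.carrier) h (Coh.toAb F) i
  exact ⟨e1.symm ≪≫ e2 ≪≫ e3.symm⟩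

end Groth.Agent.LD.SF
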