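import Groth.Agent.Lib.Lead.QCQS.LocCoh
import Groth.Agent.Lib.Lead.SC.CohDim
import Groth.Agent.Lib.Lead.SC.RPushBasis
import Groth.Agent.Lib.Lead.RP.LemmaA
import Groth.Agent.Lib.Lead.RP.Compare2

/-! # Vanishing of the local cohomology sheaves `ℋ^i_T(F)` above the number of local equations
of `T`. -/

universe u
open CategoryTheory Limits AlgebraicGeometry TopologicalSpace Opposite Abelian

namespace Groth.Agent.LD.SF.LCV

open Groth.Agent.LD.QC Groth.Agent.LD.SC Groth.Agent.LD.SC.FunSES Groth.Agent.LD.QCQS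
  Groth.Agent.LD.RP

variable {X : Scheme.{u}} (U : X.Opens)

/-- the affine opens on which `U` is the union of at most `c` basic opens. -/
def Good (c : ℕ) (W : X.Opens) : Prop :=
  IsAffineOpen W ∧ ∃ gs : Finset Γ(X, W), gs.card ≤ c ∧
    ∀ y ∈ W, (y ∈ U ↔ ∃ g ∈ gs, y ∈ X.basicOpen g)

lemma isBasis_good (c : ℕ)
    (hT : ∀ x : X, ∃ (V : X.Opens) (fs : Finset Γ(X, V)), x ∈ V ∧ fs.card ≤ c ∧
      X.zeroLocus (U := V) (↑fs : Set Γ(X, V)) ∩ (V : Set ↥X) = (U : Set ↥X)ᶜ ∩ (V : Set ↥X)) :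
    Opens.IsBasis {W : X.Opens | Good U c W} := by
  classical
  rw [Opens.isBasis_iff_nbhd]
  intro N x hxN
  obtain ⟨V, fs, hxV, hcard, hZ⟩ := hT x
  obtain ⟨W, hW, hxW, hWVN⟩ := Opens.isBasis_iff_nbhd.mp X.isBasis_affineOpens
    (show x ∈ V ⊓ N from ⟨hxV, hxN⟩)
  have hWV : W ≤ V := hWVN.trans inf_le_left
  refine ⟨W, ⟨hW, fs.image (fun f => X.presheaf.map (homOfLE hWV).op f),
    Finset.card_image_le.trans hcard, ?_⟩, hxW, hWVN.trans inf_le_right⟩
  intro y hy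
  have hyV : y ∈ V := hWV hy
  have h1 : y ∈ (U : Set X)ᶜ ↔ y ∈ X.zeroLocus (U := V) (↑fs : Set Γ(X, V)) := by
    constructor
    · intro h
      have h' : y ∈ (U : Set X)ᶜ ∩ (V : Set X) := ⟨h, hyV⟩
      rw [← hZ] at h'
      exact h'.1
    · intro h
      have h' : y ∈ X.zeroLocus (U := V) (↑fs : Set Γ(X, V)) ∩ (V : Set X) := ⟨h, hyV⟩
      rw [hZ] at h'
      exact h'.1
  rw [Scheme.mem_zeroLocus_iff] at h1
  constructor
  · intro hyU
    by_contra hne
    refine absurd hyU (h1.2 fun f hf hyf => hne ⟨_, Finset.mem_image_of_mem _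
      (Finset.mem_coe.mp hf), ?_⟩)
    rw [Scheme.basicOpen_res]
    exact ⟨hy, hyf⟩
  · rintro ⟨g, hg, hyg⟩
    obtain ⟨f, hf, rfl⟩ := Finset.mem_image.mp hg
    rw [Scheme.basicOpen_res] at hyg
    by_contra hyU
    exact (h1.1 hyU) f (Finset.mem_coe.mpr hf) hyg.2

lemma subsingleton_ext_good (c : ℕ) (W : X.Opens) (hW : Good U c W) (F : X.Modules)
    [F.IsQuasicoherent] (q : ℕ) (hq : c ≤ q) :
    Subsingleton (Ext (ZU (JX (U : Scheme.{u})) (U.ι ⁻¹ᵁ W)) (Coh.toAb (F.restrict U.ι)) q) := by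
  classical
  obtain ⟨hWa, gs, hcard, hgs⟩ := hW
  haveI : (F.restrict U.ι).IsQuasicoherent := qc_restrict U.ι F
  have hle : ∀ g ∈ gs, X.basicOpen g ≤ U := fun g hg y hy =>
    (hgs y (X.basicOpen_le g hy)).2 ⟨g, hg, hy⟩
  let s : Finset (U : Scheme.{u}).Opens := gs.image (fun g => U.ι ⁻¹ᵁ X.basicOpen g)
  have hscard : s.card ≤ c := Finset.card_image_le.trans hcard
  have hsup : s.sup id = U.ι ⁻¹ᵁ W := by
    apply le_antisymm
    · rw [Finset.sup_le_iff]
      intro O hO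
      obtain ⟨g, -, rfl⟩ := Finset.mem_image.mp hO
      exact fun y hy => X.basicOpen_le g hy
    · intro y hy
      have hyU : U.ι y ∈ U := by
        have h : U.ι y ∈ U.ι.opensRange := ⟨y, rfl⟩
        rwa [Scheme.Opens.opensRange_ι] at h
      obtain ⟨g, hg, hyg⟩ := (hgs (U.ι y) hy).1 hyU
      have hle' : U.ι ⁻¹ᵁ X.basicOpen g ≤ s.sup id :=
        Finset.le_sup (f := id) (Finset.mem_image_of_mem _ hg)
      exact hle' hyg
  rw [← hsup]
  cases q with
  | zero =>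
    have hs0 : s = ∅ := Finset.card_eq_zero.mp (Nat.le_zero.mp (hscard.trans hq))
    rw [hs0, Finset.sup_empty]
    exact subsingleton_of_forall_eq 0 fun ξ => ext_bot_eq_zero ξ
  | succ p =>
    refine subsingleton_ext_finset_sup (F.restrict U.ι)
      (fun O => ∃ g : Γ(X, W), X.basicOpen g ≤ U ∧ O = U.ι ⁻¹ᵁ X.basicOpen g) ?_ ?_ c s hscard ?_ p hq
    · rintro O ⟨g, hg, rfl⟩
      exact (hWa.basicOpen g).preimage_of_isOpenImmersion U.ι
        (by rw [Scheme.Opens.opensRange_ι]; exact hg)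
    · rintro O O' ⟨g, hg, rfl⟩ ⟨g', hg', rfl⟩
      refine ⟨g * g', ?_, ?_⟩
      · rw [Scheme.basicOpen_mul]
        exact inf_le_left.trans hg
      · rw [Scheme.basicOpen_mul]
        rfl
    · intro O hO
      obtain ⟨g, hg, rfl⟩ := Finset.mem_image.mp hO
      exact ⟨g, hle g hg, rfl⟩

variable (c : ℕ)
  (hT : ∀ x : X, ∃ (V : X.Opens) (fs : Finset Γ(X, V)), x ∈ V ∧ fs.card ≤ c ∧
    X.zeroLocus (U := V) (↑fs : Set Γ(X, V)) ∩ (V : Set ↥X) = (U : Set ↥X)ᶜ ∩ (V : Set ↥X))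

include hT in
lemma isZero_RpushAb_restrict (F : X.Modules) [F.IsQuasicoherent] (q : ℕ) (hq : c ≤ q) :
    IsZero ((Coh.RpushAb U.ι q).obj (Coh.toAb (F.restrict U.ι))) :=
  isZero_RpushAb_of_basis U.ι _ q {W : X.Opens | Good U c W} (isBasis_good U c hT)
    (fun W hW => subsingleton_ext_good U c W hW F q hq)

include hT in
lemma isZero_Rpush_restrict [HasInjectiveResolutions (U : Scheme.{u}).Modules]
    (F : X.Modules) [F.IsQuasicoherent] (q : ℕ) (hq : c ≤ q) :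
    IsZero ((Coh.Rpush U.ι q).obj (F.restrict U.ι)) := by
  obtain ⟨e⟩ := nonempty_toAb_Rpush_iso U.ι (F.restrict U.ι) q
  exact isZero_of_isZero_τ _ ((isZero_RpushAb_restrict U c hT F q hq).of_iso e)

variable [HasInjectiveResolutions X.Modules]

include hT in
lemma isZero_rightDerived_G₃Z (F : X.Modules) [F.IsQuasicoherent] (q : ℕ) (hq : c ≤ q) :
    IsZero (((G₃Z U.ι).rightDerived q).obj F) := by
  haveI := hasInjRes (U : Scheme.{u})
  let e := rightDerivedCompNatIso (Scheme.Modules.restrictFunctor U.ι)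
    (Scheme.Modules.pushforward U.ι) (G₃Z U.ι) (Iso.refl _) q
  exact IsZero.of_iso (isZero_Rpush_restrict U c hT F q hq) (e.app F).symm

include hT in
/-- **S7252**. -/
theorem isZero_rightDerived_gammaZ (F : X.Modules) [F.IsQuasicoherent] (i : ℕ) (hi : c < i) :
    IsZero (((DCoh.gammaZ U.ι).rightDerived i).obj F) := by
  obtain ⟨q, rfl⟩ : ∃ q, i = q + 1 := ⟨i - 1, by omega⟩
  have h3 := isZero_rightDerived_G₃Z U c hT F q (by omega)
  have h2 : IsZero (((𝟭 X.Modules).rightDerived (q + 1)).obj F) :=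
    isZero_rightDerived_succ_of_exact (𝟭 X.Modules) q F
  have hex := exact₁ (αZ U.ι) (βZ U.ι) (wZ U.ι) (shortExact_Z U.ι) F q
  exact hex.isZero_of_both_zeros (h3.eq_of_src _ _) (h2.eq_of_tgt _ _)

end Groth.Agent.LD.SF.LCV
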